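import Groth.Prelude.Def_W4c5algebraiztannakaNis
import Groth.Agent.KFlatLib.Preserve
import Mathlib

/-!
Two-term contractible complexes and maps to them.
-/

open CategoryTheory CategoryTheory.Limits HomologicalComplex

universe u

namespace Groth.Agent.NisCov7.Size

variable {R : Type u} [CommRing R]

lemma rel_pred (j : ℤ) : (ComplexShape.up ℤ).Rel (j - 1) j := by simp

lemma pred_ne (j : ℤ) : j - 1 ≠ j := by omega

/-- the complex `W = W` in degrees `j - 1`, `j` -/
noncomputable abbrev disk (W : ModuleCat.{u} R) (j : ℤ) : DRing.Cx R := double (𝟙 W) (rel_pred j)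

noncomputable abbrev diskIso₀ (W : ModuleCat.{u} R) (j : ℤ) : (disk W j).X (j - 1) ≅ W :=
  doubleXIso₀ (𝟙 W) (rel_pred j)

noncomputable abbrev diskIso₁ (W : ModuleCat.{u} R) (j : ℤ) : (disk W j).X j ≅ W :=
  doubleXIso₁ (𝟙 W) (rel_pred j) (pred_ne j)

lemma disk_d (W : ModuleCat.{u} R) (j : ℤ) :
    (disk W j).d (j - 1) j = (diskIso₀ W j).hom ≫ (diskIso₁ W j).inv := by
  rw [double_d (𝟙 W) (rel_pred j) (pred_ne j), Category.id_comp]

lemma isZero_disk (W : ModuleCat.{u} R) (j k : ℤ) (h₀ : k ≠ j - 1) (h₁ : k ≠ j) :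
    IsZero ((disk W j).X k) :=
  isZero_double_X _ _ k h₀ h₁

lemma disk_acyclic (W : ModuleCat.{u} R) (j : ℤ) : (disk W j).Acyclic := by
  intro k
  by_cases h₀ : k = j - 1
  · subst h₀
    rw [exactAt_iff' _ (j - 1 - 1) (j - 1) j (by simp) (by simp)]
    haveI : IsIso ((disk W j).d (j - 1) j) := by rw [disk_d]; infer_instance
    exact (ShortComplex.exact_iff_mono _ ((isZero_disk W j (j - 1 - 1) (by omega) (by omega)).eq_of_src _ _)).2
      (inferInstanceAs (Mono ((disk W j).d (j - 1) j)))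
  by_cases h₁ : k = j
  · subst h₁
    rw [exactAt_iff' _ (k - 1) k (k + 1) (by simp) (by simp)]
    haveI : IsIso ((disk W k).d (k - 1) k) := by rw [disk_d]; infer_instance
    exact (ShortComplex.exact_iff_epi _ ((isZero_disk W k (k + 1) (by omega) (by omega)).eq_of_tgt _ _)).2
      (inferInstanceAs (Epi ((disk W k).d (k - 1) k)))
  exact ExactAt.of_isZero (isZero_disk W j k h₀ h₁)

variable {C : DRing.Cx R} {W : ModuleCat.{u} R} {j : ℤ}

open scoped Classical in
/-- the morphism to the disk given by a map out of the `j`-th term -/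
noncomputable def toDisk (u : C.X j ⟶ W) : C ⟶ disk W j where
  f k :=
    if h₀ : k = j - 1 then
      eqToHom (by rw [h₀]) ≫ C.d (j - 1) j ≫ u ≫ (diskIso₀ W j).inv ≫ eqToHom (by rw [h₀])
    else if h₁ : k = j then
      eqToHom (by rw [h₁]) ≫ u ≫ (diskIso₁ W j).inv ≫ eqToHom (by rw [h₁])
    else 0
  comm' k k' hk := by
    have hk' : k + 1 = k' := hk
    by_cases h₁ : k' = j
    · obtain rfl : k = j - 1 := by omega
      subst h₁
      rw [dif_pos rfl, dif_neg (pred_ne k').symm, dif_pos rfl, disk_d]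
      simp
    by_cases h₀ : k' = j - 1
    · subst h₀
      rw [dif_pos rfl, dif_neg (by omega), dif_neg (by omega)]
      simp
    exact (isZero_disk W j k' h₀ h₁).eq_of_tgt _ _

lemma toDisk_f₀ (u : C.X j ⟶ W) :
    (toDisk u).f (j - 1) = C.d (j - 1) j ≫ u ≫ (diskIso₀ W j).inv := by
  simp [toDisk]

lemma toDisk_f₁ (u : C.X j ⟶ W) : (toDisk u).f j = u ≫ (diskIso₁ W j).inv := by
  simp [toDisk, (pred_ne j).symm]

end Groth.Agent.NisCov7.Size
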