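import Groth.Agent.NisCov7.Size.Step
import Groth.Agent.NisCov7.Gen
import Groth.Agent.KZ.Perfect
import Groth.Agent.CAlgUI.DescentProj

/-!
Consequences of a local bound on the size of a complex.
-/

open CategoryTheory CategoryTheory.Limits HomologicalComplex AlgebraicGeometry
open scoped TensorProduct

universe u

namespace Groth.Agent.NisCov7.Size

attribute [local instance] HasDerivedCategory.standard

variable {R : Type u} [CommRing R]

lemma isKProjective_of_bounded {E : DRing.Cx R} {a b : ℤ} (hE : DRing.VanishesOutside E a b)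
    (hP : ∀ i, Module.Projective R (E.X i)) : E.IsKProjective := by
  haveI : ∀ n, Projective (E.X n) := fun n => (IsProjective.iff_projective (E.X n)).1 (hP n)
  haveI : E.IsStrictlyLE b := (CochainComplex.isStrictlyLE_iff _ _).2 fun i hi => hE i (Or.inr hi)
  exact CochainComplex.isKProjective_of_projective E b

theorem nonempty_homotopyEquiv {P Q : DRing.Cx R} [P.IsKProjective] [Q.IsKProjective]
    (e : DRing.toD P ≅ DRing.toD Q) : Nonempty (HomotopyEquiv P Q) := by
  obtain ⟨f, hf⟩ := KZ.exists_lift_hom (E := P) (F := Q) e.hom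
  haveI : IsIso (DerivedCategory.Q.map f) := by rw [hf]; infer_instance
  haveI : QuasiIso f := (DerivedCategory.isIso_Q_map_iff_quasiIso (φ := f)).1 inferInstance
  obtain ⟨h, -⟩ := (CochainComplex.IsKProjective.quasiIso_iff f).1 inferInstance
  exact ⟨h⟩

lemma genBy_extendScalars {B : Type u} [CommRing B] (φ : R →+* B) {M : ModuleCat.{u} R} {n : ℕ}
    (h : GenBy M n) : GenBy ((ModuleCat.extendScalars.{u, u, u} φ).obj M) n := by
  obtain ⟨a, ha⟩ := h
  let : Algebra R B := φ.toAlgebra
  refine ⟨fun i => (show B ⊗[R] M from (1 : B) ⊗ₜ a i), ?_⟩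
  show Submodule.span B (Set.range fun i => ((1 : B) ⊗ₜ[R] a i)) = (⊤ : Submodule B (B ⊗[R] M))
  set P : Submodule B (B ⊗[R] M) := Submodule.span B (Set.range fun i => ((1 : B) ⊗ₜ[R] a i))
  refine eq_top_iff.2 fun w _ => ?_
  induction w using TensorProduct.induction_on with
  | zero => exact zero_mem _
  | tmul b m =>
    have hm : (1 : B) ⊗ₜ[R] m ∈ P := by
      have hm' : m ∈ Submodule.span R (Set.range a) := ha ▸ trivial
      clear * - hm'
      induction hm' using Submodule.span_induction with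
      | mem x hx => obtain ⟨k, rfl⟩ := hx; exact Submodule.subset_span ⟨k, rfl⟩
      | zero => rw [TensorProduct.tmul_zero]; exact zero_mem _
      | add x y _ _ hx hy => rw [TensorProduct.tmul_add]; exact add_mem hx hy
      | smul r x _ hx => rw [TensorProduct.tmul_smul]; exact P.smul_of_tower_mem r hx
    simpa [TensorProduct.smul_tmul'] using P.smul_mem b hm
  | add v w hv hw => exact add_mem (hv trivial) (hw trivial)

lemma genBy_of_sum {A B M : ModuleCat.{u} R} {p q : ℕ} (hA : GenBy A p) (hB : GenBy B q) (f : A ⟶ M)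
    (g : B ⟶ M) (h : ∀ z, ∃ x y, f.hom x + g.hom y = z) : GenBy M (p + q) := by
  obtain ⟨a, ha⟩ := hA
  obtain ⟨b, hb⟩ := hB
  refine ⟨Fin.append (f.hom ∘ a) (g.hom ∘ b), eq_top_iff.2 fun z _ => ?_⟩
  obtain ⟨x, y, rfl⟩ := h z
  refine add_mem ?_ ?_
  · have : f.hom x ∈ (Submodule.span R (Set.range a)).map f.hom := ⟨x, ha ▸ trivial, rfl⟩
    rw [Submodule.map_span, ← Set.range_comp] at this
    exact Submodule.span_mono (by rintro _ ⟨i, rfl⟩; exact ⟨Fin.castAdd q i, by simp⟩) this
  · have : g.hom y ∈ (Submodule.span R (Set.range b)).map g.hom := ⟨y, hb ▸ trivial, rfl⟩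
    rw [Submodule.map_span, ← Set.range_comp] at this
    exact Submodule.span_mono (by rintro _ ⟨i, rfl⟩; exact ⟨Fin.natAdd p i, by simp⟩) this

/-- the defining identity of a homotopy equivalence -/
lemma homotopy_id {P Q : DRing.Cx R} (he : HomotopyEquiv P Q) (k : ℤ) :
    he.inv.f k ≫ he.hom.f k = Q.d k (k + 1) ≫ he.homotopyInvHomId.hom (k + 1) k +
      he.homotopyInvHomId.hom k (k - 1) ≫ Q.d (k - 1) k + 𝟙 (Q.X k) := by
  have h := he.homotopyInvHomId.comm k
  rw [dNext_eq _ (show (ComplexShape.up ℤ).Rel k (k + 1) by simp),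
    prevD_eq _ (show (ComplexShape.up ℤ).Rel (k - 1) k by simp)] at h
  simpa using h

/-- a homotopy equivalent complex bounds the generators of the cokernels -/
lemma genBy_of_homotopyEquiv {P Q : DRing.Cx R} (he : HomotopyEquiv P Q) (k : ℤ) {p q : ℕ}
    (hp : GenBy (P.X k) p) (hq : GenBy (Q.X (k + 1)) q) {M : ModuleCat.{u} R} (π : Q.X k ⟶ M)
    (hπ : Function.Surjective π.hom) (hd : Q.d (k - 1) k ≫ π = 0) : GenBy M (p + q) := by
  refine genBy_of_sum hp hq (he.hom.f k ≫ π) (-(he.homotopyInvHomId.hom (k + 1) k ≫ π)) fun z => ?_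
  obtain ⟨z, rfl⟩ := hπ z
  refine ⟨(he.inv.f k).hom z, (Q.d k (k + 1)).hom z, ?_⟩
  have h : he.inv.f k ≫ he.hom.f k ≫ π - Q.d k (k + 1) ≫ he.homotopyInvHomId.hom (k + 1) k ≫ π = π := by
    rw [← Category.assoc (he.inv.f k), homotopy_id, Preadditive.add_comp, Preadditive.add_comp,
      Category.assoc, Category.assoc, hd, comp_zero, Category.id_comp]
    abel
  exact (sub_eq_add_neg _ _).symm.trans (LinearMap.congr_fun (congrArg ModuleCat.Hom.hom h) z)

variable {B : Type u} [CommRing B] (φ : R →+* B)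

lemma comap_surjective {N : ℕ}
    (h : W4c5algebraiztannaka.IsNisCoverLen (Spec.map (CommRingCat.ofHom φ)) N) :
    Function.Surjective (PrimeSpectrum.comap φ) := by
  intro p
  have hchain : ∀ (n : ℕ) (C : Set (Spec (CommRingCat.of R))), Chain (Spec.map (CommRingCat.ofHom φ)) n C →
      C ⊆ Set.range (Spec.map (CommRingCat.ofHom φ)) := by
    intro n
    induction n with
    | zero => intro C h; rw [show C = ∅ from h]; exact Set.empty_subset _
    | succ n ih =>
      rintro C ⟨C', h', -, -, -, T, i, s, -, hr, hs⟩ x hx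
      by_cases hx' : x ∈ C'
      · exact ih C' h' hx'
      · obtain ⟨t, ht⟩ : x ∈ Set.range i := hr.ge ⟨hx, hx'⟩
        exact ⟨s t, by rw [← ht, ← hs]; rfl⟩
  exact hchain N Set.univ (chain_of_flag h) (Set.mem_univ p)

lemma faithfullyFlat {N : ℕ}
    (h : W4c5algebraiztannaka.IsNisCoverLen (Spec.map (CommRingCat.ofHom φ)) N) :
    φ.FaithfullyFlat := by
  have := h.etale
  have he : φ.Etale := (HasRingHomProperty.Spec_iff (P := @Etale.{u})).1 h.etale
  let : Algebra R B := φ.toAlgebra
  have : Algebra.Etale R B := he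
  show Module.FaithfullyFlat R B
  exact Module.FaithfullyFlat.of_comap_surjective (comap_surjective φ h)

/-- descent of the generators -/
lemma genBy_descend {N : ℕ} (h : W4c5algebraiztannaka.IsNisCoverLen (Spec.map (CommRingCat.ofHom φ)) N)
    (M : ModuleCat.{u} R) [Module.Finite R M] {n : ℕ}
    (hM : GenBy ((ModuleCat.extendScalars.{u, u, u} φ).obj M) n) : GenBy M (n * N) := by
  obtain ⟨a, ha⟩ := hM
  exact exists_generators_of_local (R := CommRingCat.of R) M (Spec.map (CommRingCat.ofHom φ))
    (fun S q z hz => span_extendScalars (CommRingCat.ofHom φ) M a ha S q z hz) (chain_of_flag h)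

/-- descent of an injective map with projective cokernel from a retraction after base change -/
lemma injective_projective_coker {N : ℕ}
    (h : W4c5algebraiztannaka.IsNisCoverLen (Spec.map (CommRingCat.ofHom φ)) N)
    {M L : ModuleCat.{u} R} [Module.Projective R L] (f : M ⟶ L)
    (r : (ModuleCat.extendScalars.{u, u, u} φ).obj L ⟶ (ModuleCat.extendScalars.{u, u, u} φ).obj M)
    (hr : (ModuleCat.extendScalars.{u, u, u} φ).map f ≫ r = 𝟙 _) :
    Function.Injective f.hom ∧ Module.Projective R (L ⧸ LinearMap.range f.hom) := by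
  let : Algebra R B := φ.toAlgebra
  haveI : Module.FaithfullyFlat R B := faithfullyFlat φ h
  let fB : B ⊗[R] M →ₗ[B] B ⊗[R] L := f.hom.baseChange B
  let rB : B ⊗[R] L →ₗ[B] B ⊗[R] M := r.hom
  have hrB : ∀ x, rB (fB x) = x := fun x => LinearMap.congr_fun (congrArg ModuleCat.Hom.hom hr) x
  refine ⟨?_, ?_⟩
  · refine (Module.FaithfullyFlat.lTensor_injective_iff_injective R B f.hom).1 ?_
    intro x y hxy
    have : fB x = fB y := hxy
    rw [← hrB x, this, hrB]
  · set g := (LinearMap.range f.hom).mkQ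
    let gB : B ⊗[R] L →ₗ[B] B ⊗[R] (L ⧸ LinearMap.range f.hom) := g.baseChange B
    have hgB : Function.Surjective gB := LinearMap.lTensor_surjective B (Submodule.mkQ_surjective _)
    have hex : Function.Exact fB gB :=
      lTensor_exact B (LinearMap.exact_map_mkQ_range f.hom) (Submodule.mkQ_surjective _)
    have hle : LinearMap.ker gB ≤ LinearMap.ker (LinearMap.id - fB ∘ₗ rB) := by
      intro x hx
      obtain ⟨y, rfl⟩ := (hex x).1 hx
      simp [hrB]
    let σ : B ⊗[R] (L ⧸ LinearMap.range f.hom) →ₗ[B] B ⊗[R] L :=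
      (LinearMap.ker gB).liftQ _ hle ∘ₗ (LinearMap.quotKerEquivOfSurjective gB hgB).symm.toLinearMap
    have hσ : gB ∘ₗ σ = LinearMap.id := by
      refine LinearMap.ext fun z => ?_
      obtain ⟨x, rfl⟩ := hgB z
      have e : (LinearMap.quotKerEquivOfSurjective gB hgB).symm (gB x) = Submodule.Quotient.mk x := by
        rw [LinearEquiv.symm_apply_eq]
        rfl
      simp only [σ, LinearMap.comp_apply, LinearEquiv.coe_coe, e, Submodule.liftQ_apply, LinearMap.sub_apply,
        LinearMap.id_apply, map_sub]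
      rw [hex.apply_apply_eq_zero, sub_zero]
    haveI : Module.Projective B (B ⊗[R] (L ⧸ LinearMap.range f.hom)) := Module.Projective.of_split σ gB hσ
    exact CAlgUI.projective_descent (S := B)

end Groth.Agent.NisCov7.Size
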