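import Groth.Agent.NisCov7.Size.Local

/-!
A uniform bound: a complex of local size `N` has global size bounded in terms of `N`.
-/

open CategoryTheory CategoryTheory.Limits HomologicalComplex AlgebraicGeometry W4c5algebraiztannaka

universe u

namespace Groth.Agent.NisCov7.Size

attribute [local instance] HasDerivedCategory.standard

/-- bound in the degree `N + 1 - k` -/
def bnd (N : ℕ) : ℕ → ℕ
  | 0 => 0
  | k + 1 => (N + bnd N k) * N

/-- bound in degree `i` -/
def bndDeg (N : ℕ) (i : ℤ) : ℕ := bnd N ((N : ℤ) + 1 - i).toNat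

/-- the global bound -/
def bound (N : ℕ) : ℕ := N + 1 + ∑ k ∈ Finset.range (2 * N + 3), bnd N k

lemma bndDeg_le (N : ℕ) {i : ℤ} (hi : -(N : ℤ) - 1 ≤ i) : bndDeg N i ≤ bound N := by
  refine le_trans ?_ (Nat.le_add_left _ _)
  exact Finset.single_le_sum (f := bnd N) (fun k _ => Nat.zero_le _)
    (Finset.mem_range.2 (show ((N : ℤ) + 1 - i).toNat < 2 * N + 3 by omega))

variable {R : Type u} [CommRing R]

lemma isZero_bc {B : Type u} [CommRing B] (φ : R →+* B) {M : ModuleCat.{u} R} (h : IsZero M) :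
    IsZero ((ModuleCat.extendScalars.{u, u, u} φ).obj M) :=
  Functor.map_isZero _ h

variable {B : Type u} [CommRing B] {φ : R →+* B} {N : ℕ} {P : DRing.Cx B} {E₀ : DRing.Cx R}

lemma exists_homotopyEquiv_bc (hP : TermsOfSize P N) (e : DRing.toD P ≅ DRing.toD ((bcCx φ).obj E₀))
    {a₀ b₀ : ℤ} (h₀ : DRing.VanishesOutside E₀ a₀ b₀) (hP₀ : DRing.TermwiseFiniteProjective E₀)
    {E : DRing.Cx R} {a b : ℤ} (hE : DRing.VanishesOutside E a b)
    (hPE : DRing.TermwiseFiniteProjective E) (e' : DRing.toD E ≅ DRing.toD E₀) :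
    Nonempty (HomotopyEquiv P ((bcCx φ).obj E)) := by
  have hbc : ∀ {E : DRing.Cx R} {a b : ℤ}, DRing.VanishesOutside E a b →
      DRing.TermwiseFiniteProjective E → ((bcCx φ).obj E).IsKProjective := by
    intro E a b hE hPE
    refine isKProjective_of_bounded (a := a) (b := b) (fun i hi => isZero_bc φ (hE i hi)) fun i => ?_
    let : Algebra R B := φ.toAlgebra
    have := (hPE i).2
    exact (inferInstance : Module.Projective B (TensorProduct R B (E.X i)))
  haveI := isKProjective_of_bounded hE fun i => (hPE i).2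
  haveI := isKProjective_of_bounded h₀ fun i => (hP₀ i).2
  haveI := isKProjective_of_bounded hP.1 fun i => (hP.2 i).1
  haveI := hbc hE hPE
  haveI := hbc h₀ hP₀
  obtain ⟨h₁⟩ := nonempty_homotopyEquiv e
  obtain ⟨h₂⟩ := nonempty_homotopyEquiv e'.symm
  exact ⟨h₁.trans ((ModuleCat.extendScalars.{u, u, u} φ).mapHomotopyEquiv h₂)⟩

/-- the data produced by the descending induction -/
theorem exists_bounded_gens (hc : IsNisCoverLen (Spec.map (CommRingCat.ofHom φ)) N)
    (hP : TermsOfSize P N) (e : DRing.toD P ≅ DRing.toD ((bcCx φ).obj E₀))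
    {a₀ b₀ : ℤ} (h₀ : DRing.VanishesOutside E₀ a₀ b₀) (hP₀ : DRing.TermwiseFiniteProjective E₀) (n : ℕ) :
    ∃ (E : DRing.Cx R) (a b : ℤ), DRing.VanishesOutside E a b ∧ DRing.TermwiseFiniteProjective E ∧
      Nonempty (DRing.toD E ≅ DRing.toD E₀) ∧
      ∀ i, max b₀ N - (n : ℤ) < i → GenBy (E.X i) (bndDeg N i) := by
  induction n with
  | zero =>
    exact ⟨E₀, a₀, b₀, h₀, hP₀, ⟨Iso.refl _⟩, fun i hi =>
      (genBy_zero_iff.2 (h₀ i (Or.inr (by omega)))).mono (Nat.zero_le _)⟩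
  | succ n ih =>
    obtain ⟨E, a, b, hE, hPE, ⟨e'⟩, hgen⟩ := ih
    set j : ℤ := max b₀ N - (n : ℤ)
    obtain ⟨he⟩ := exists_homotopyEquiv_bc hP e h₀ hP₀ hE hPE e'
    let π : E.X j ⟶ ModuleCat.of R (E.X j ⧸ LinearMap.range (E.d (j - 1) j).hom) :=
      ModuleCat.ofHom (Submodule.mkQ _)
    have hdπ : E.d (j - 1) j ≫ π = 0 :=
      ModuleCat.hom_ext (LinearMap.range_mkQ_comp _)
    have : Module.Finite R (E.X j) := (hPE j).1
    have hπ : Function.Surjective ((ModuleCat.extendScalars.{u, u, u} φ).map π).hom := by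
      let : Algebra R B := φ.toAlgebra
      exact LinearMap.lTensor_surjective B (Submodule.mkQ_surjective _)
    have hπd : ((bcCx φ).obj E).d (j - 1) j ≫ (ModuleCat.extendScalars.{u, u, u} φ).map π = 0 := by
      show (ModuleCat.extendScalars.{u, u, u} φ).map _ ≫ _ = 0
      rw [← Functor.map_comp, hdπ, Functor.map_zero]
    have hq : GenBy (((bcCx φ).obj E).X (j + 1)) (bndDeg N (j + 1)) :=
      genBy_extendScalars φ (hgen (j + 1) (by omega))
    have hcount : GenBy (ModuleCat.of R (E.X j ⧸ LinearMap.range (E.d (j - 1) j).hom)) (bndDeg N j) := by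
      by_cases hj : (N : ℤ) < j
      · have hp : GenBy (P.X j) 0 := genBy_zero_iff.2 (hP.1 j (Or.inr hj))
        have h := genBy_descend φ hc _ (genBy_of_homotopyEquiv he j hp hq _ hπ hπd)
        refine h.mono (le_of_eq ?_)
        rw [bndDeg, bndDeg, show ((N : ℤ) + 1 - (j + 1)).toNat = 0 by omega,
          show ((N : ℤ) + 1 - j).toNat = 0 by omega]
        simp [bnd]
      · obtain ⟨g, hg⟩ := (hP.2 j).2
        have hp : GenBy (P.X j) N := (genBy_free N).of_surjective (ModuleCat.ofHom g) hg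
        have h := genBy_descend φ hc _ (genBy_of_homotopyEquiv he j hp hq _ hπ hπd)
        refine h.mono (le_of_eq ?_)
        rw [bndDeg, bndDeg, show ((N : ℤ) + 1 - j).toNat = ((N : ℤ) + 1 - (j + 1)).toNat + 1 by omega]
        rfl
    obtain ⟨c, hcspan⟩ := hcount
    choose c' hc' using fun k => Submodule.mkQ_surjective _ (c k)
    obtain ⟨E', a', b', hE', hPE', ⟨e''⟩, hj', hk'⟩ := exists_step E a b hE hPE j (bndDeg N j)
      (Fintype.linearCombination R c') (by
        rw [Fintype.range_linearCombination, sup_comm]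
        have hmap : Submodule.map (LinearMap.range (E.d (j - 1) j).hom).mkQ (Submodule.span R (Set.range c')) = ⊤ := by
          rw [Submodule.map_span, ← Set.range_comp]
          exact (congrArg (fun f => Submodule.span R (Set.range f)) (funext hc')).trans hcspan
        rw [← Submodule.comap_map_mkQ, hmap, Submodule.comap_top])
    refine ⟨E', a', b', hE', hPE', ⟨e'' ≪≫ e'⟩, fun i hi => ?_⟩
    rcases (show j ≤ i by omega).eq_or_lt with rfl | hlt
    · exact hj'
    · exact hk' i hlt _ (hgen i hlt)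

theorem exists_trimmed (hc : IsNisCoverLen (Spec.map (CommRingCat.ofHom φ)) N)
    (hP : TermsOfSize P N) (e : DRing.toD P ≅ DRing.toD ((bcCx φ).obj E₀))
    {a₀ b₀ : ℤ} (h₀ : DRing.VanishesOutside E₀ a₀ b₀) (hP₀ : DRing.TermwiseFiniteProjective E₀)
    {E : DRing.Cx R} {a b : ℤ} (hE : DRing.VanishesOutside E a b) (hb : -(N : ℤ) ≤ b)
    (hPE : DRing.TermwiseFiniteProjective E) (e' : DRing.toD E ≅ DRing.toD E₀) (m : ℕ)
    (hm : a + m ≤ -(N : ℤ) - 1) :
    ∃ E' : DRing.Cx R, DRing.VanishesOutside E' (a + m) b ∧ DRing.TermwiseFiniteProjective E' ∧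
      Nonempty (DRing.toD E' ≅ DRing.toD E₀) ∧ ∀ i k, GenBy (E.X i) k → GenBy (E'.X i) k := by
  induction m with
  | zero => exact ⟨E, by simpa using hE, hPE, ⟨e'⟩, fun _ _ h => h⟩
  | succ m ih =>
    obtain ⟨E', hE', hPE', ⟨e''⟩, hgen⟩ := ih (by omega)
    set c : ℤ := a + m
    obtain ⟨he⟩ := exists_homotopyEquiv_bc hP e h₀ hP₀ hE' hPE' e''
    have hz : IsZero (((bcCx φ).obj E').X (c - 1)) := isZero_bc φ (hE' (c - 1) (Or.inl (by omega)))
    have h := homotopy_id he c
    rw [(hP.1 c (Or.inl (by omega))).eq_of_tgt (he.inv.f c) 0, zero_comp,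
      hz.eq_of_tgt (he.homotopyInvHomId.hom c (c - 1)) 0, zero_comp, add_zero] at h
    have hr : ((bcCx φ).obj E').d c (c + 1) ≫ (-he.homotopyInvHomId.hom (c + 1) c) =
        𝟙 (((bcCx φ).obj E').X c) := by
      rw [Preadditive.comp_neg]
      exact neg_eq_of_add_eq_zero_right h.symm
    haveI := (hPE' (c + 1)).2
    obtain ⟨hinj, hproj⟩ := injective_projective_coker φ hc (E'.d c (c + 1))
      (-he.homotopyInvHomId.hom (c + 1) c) hr
    obtain ⟨E'', hE'', hPE'', ⟨e₃⟩, hgen'⟩ := exists_trim E' c b (by omega) hE' hPE' hinj hproj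
    exact ⟨E'', by rw [show a + ((m + 1 : ℕ) : ℤ) = c + 1 by omega]; exact hE'', hPE'', ⟨e₃ ≪≫ e''⟩,
      fun i k h => hgen' i k (hgen i k h)⟩

theorem globSize_of_locSize (E₀ : DRing.Cx R) (a₀ b₀ : ℤ) (h₀ : DRing.VanishesOutside E₀ a₀ b₀)
    (hP₀ : DRing.TermwiseFiniteProjective E₀) (N : ℕ) (h : LocSize E₀ N) :
    GlobSize R (DRing.toD E₀) (bound N) := by
  obtain ⟨B, _, φ, hc, P, hP, ⟨e⟩⟩ := h
  obtain ⟨E, a, b, hE, hPE, ⟨e'⟩, hgen⟩ :=
    exists_bounded_gens hc hP e h₀ hP₀ (max b₀ N + N + 2).toNat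
  have hgen' : ∀ i, -(N : ℤ) - 1 ≤ i → GenBy (E.X i) (bndDeg N i) := fun i hi => hgen i (by omega)
  have hE' : DRing.VanishesOutside E (min a (-(N : ℤ) - 1)) N := by
    intro i hi
    rcases hi with hi | hi
    · exact hE i (Or.inl (by omega))
    · have := hgen' i (by omega)
      rw [bndDeg, show ((N : ℤ) + 1 - i).toNat = 0 by omega] at this
      exact genBy_zero_iff.1 this
  obtain ⟨E', hE'', hPE', he'', hgen''⟩ := exists_trimmed hc hP e h₀ hP₀ hE' (by omega) hPE e'
    (-(N : ℤ) - 1 - min a (-(N : ℤ) - 1)).toNat (by omega)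
  have hN : N + 1 ≤ bound N := Nat.le_add_right _ _
  refine ⟨E', ⟨fun i hi => hE'' i (by omega), fun i => ⟨(hPE' i).2, GenBy.exists_surjective ?_⟩⟩, he''⟩
  by_cases hi : -(N : ℤ) - 1 ≤ i
  · exact (hgen'' i _ (hgen' i hi)).mono (bndDeg_le N hi)
  · exact (genBy_zero_iff.2 (hE'' i (Or.inl (by omega)))).mono (Nat.zero_le _)

end Groth.Agent.NisCov7.Size
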