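import Groth.Agent.NisCov7.Size.Disk

/-!
Replacing the degree `j` term of a complex by a free module of the size of `coker d`;
removing an injective bottom differential.
-/

open CategoryTheory CategoryTheory.Limits HomologicalComplex

universe u

namespace Groth.Agent.NisCov7.Size

attribute [local instance] HasDerivedCategory.standard

variable {R : Type u} [CommRing R]

/-- `M` is generated by `n` elements -/
def GenBy (M : ModuleCat.{u} R) (n : ℕ) : Prop :=
  ∃ a : Fin n → M, Submodule.span R (Set.range a) = ⊤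

lemma GenBy.of_surjective {M N : ModuleCat.{u} R} {n : ℕ} (h : GenBy M n) (f : M ⟶ N)
    (hf : Function.Surjective f.hom) : GenBy N n := by
  obtain ⟨a, ha⟩ := h
  exact ⟨f.hom ∘ a, by rw [Set.range_comp, Submodule.span_image, ha, Submodule.map_top, LinearMap.range_eq_top.2 hf]⟩

lemma genBy_free (n : ℕ) : GenBy (ModuleCat.of R (Fin n → R)) n :=
  ⟨fun i => Pi.single i 1, by
    have := (Pi.basisFun R (Fin n)).span_eq
    rw [show (fun i => Pi.single i (1 : R)) = ⇑(Pi.basisFun R (Fin n)) from funext fun i => by simp]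
    exact this⟩

lemma GenBy.mono {M : ModuleCat.{u} R} {m n : ℕ} (h : GenBy M m) (hmn : m ≤ n) : GenBy M n := by
  obtain ⟨a, ha⟩ := h
  refine ⟨fun i => if hi : (i : ℕ) < m then a ⟨i, hi⟩ else 0, eq_top_iff.2 (ha.ge.trans (Submodule.span_mono ?_))⟩
  rintro _ ⟨i, rfl⟩
  exact ⟨⟨i, lt_of_lt_of_le i.2 hmn⟩, by simp⟩

lemma genBy_zero_iff {M : ModuleCat.{u} R} : GenBy M 0 ↔ IsZero M := by
  rw [ModuleCat.isZero_iff_subsingleton]
  constructor
  · rintro ⟨a, ha⟩
    rw [Set.range_eq_empty, Submodule.span_empty] at ha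
    exact (Submodule.subsingleton_iff R).1 (subsingleton_of_bot_eq_top ha)
  · intro h
    exact ⟨fun i => i.elim0, eq_top_iff.2 fun x _ => by rw [Subsingleton.elim x 0]; exact zero_mem _⟩

lemma GenBy.exists_surjective {M : ModuleCat.{u} R} {n : ℕ} (h : GenBy M n) :
    ∃ g : (Fin n → R) →ₗ[R] M, Function.Surjective g := by
  obtain ⟨a, ha⟩ := h
  exact ⟨Fintype.linearCombination R a, by
    rw [← LinearMap.range_eq_top, Fintype.range_linearCombination, ha]⟩

lemma finite_projective_biprod {X Y : DRing.Cx R} (hX : DRing.TermwiseFiniteProjective X)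
    (hY : DRing.TermwiseFiniteProjective Y) : DRing.TermwiseFiniteProjective (X ⊞ Y) := by
  intro k
  obtain ⟨hXf, hXp⟩ := hX k
  obtain ⟨hYf, hYp⟩ := hY k
  have e : (X ⊞ Y).X k ≅ ModuleCat.of R (X.X k × Y.X k) :=
    biprodXIso X Y k ≪≫ ModuleCat.biprodIsoProd _ _
  exact ⟨Module.Finite.equiv e.toLinearEquiv.symm, Module.Projective.of_equiv e.toLinearEquiv.symm⟩

lemma disk_finite_projective (W : ModuleCat.{u} R) [Module.Finite R W] [Module.Projective R W] (j : ℤ) :
    DRing.TermwiseFiniteProjective (disk W j) := by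
  intro k
  by_cases h₀ : k = j - 1
  · subst h₀
    exact ⟨Module.Finite.equiv (diskIso₀ W j).toLinearEquiv.symm, Module.Projective.of_equiv (diskIso₀ W j).toLinearEquiv.symm⟩
  by_cases h₁ : k = j
  · subst h₁
    exact ⟨Module.Finite.equiv (diskIso₁ W k).toLinearEquiv.symm, Module.Projective.of_equiv (diskIso₁ W k).toLinearEquiv.symm⟩
  have := ModuleCat.subsingleton_of_isZero (isZero_disk W j k h₀ h₁)
  exact ⟨inferInstance, inferInstance⟩

lemma isIso_Q_map_of_quasiIso {X Y : DRing.Cx R} (f : X ⟶ Y) [QuasiIso f] :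
    IsIso (DerivedCategory.Q.map f) := inferInstance

/-- the replacement step -/
theorem exists_step (E : DRing.Cx R) (a b : ℤ) (hE : DRing.VanishesOutside E a b)
    (hP : DRing.TermwiseFiniteProjective E) (j : ℤ) (n : ℕ) (f : (Fin n → R) →ₗ[R] E.X j)
    (hf : LinearMap.range f ⊔ LinearMap.range (E.d (j - 1) j).hom = ⊤) :
    ∃ (E' : DRing.Cx R) (a' b' : ℤ), DRing.VanishesOutside E' a' b' ∧ DRing.TermwiseFiniteProjective E' ∧
      Nonempty (DRing.toD E' ≅ DRing.toD E) ∧ GenBy (E'.X j) n ∧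
      ∀ k, j < k → ∀ m, GenBy (E.X k) m → GenBy (E'.X k) m := by
  obtain ⟨_, _⟩ := hP j
  let F := ModuleCat.of R (Fin n → R)
  let D := disk F j
  let C := E ⊞ D
  let W := E.X j
  let fh : F ⟶ W := ModuleCat.ofHom f
  let u : C.X j ⟶ W := (biprod.fst : C ⟶ E).f j - (biprod.snd : C ⟶ D).f j ≫ (diskIso₁ F j).hom ≫ fh
  let p := toDisk u
  have htot : ∀ k, (biprod.fst : C ⟶ E).f k ≫ (biprod.inl : E ⟶ C).f k +
      (biprod.snd : C ⟶ D).f k ≫ (biprod.inr : D ⟶ C).f k = 𝟙 (C.X k) := fun k => by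
    rw [← comp_f, ← comp_f, ← add_f_apply, biprod.total]; rfl
  have hp : ∀ k, Epi (p.f k) := by
    intro k
    by_cases h₀ : k = j - 1
    · subst h₀
      rw [ModuleCat.epi_iff_surjective]
      have hd : ∀ (y : E.X (j - 1)) (x : F),
          u.hom ((C.d (j - 1) j).hom (((biprod.inl : E ⟶ C).f (j - 1)).hom y +
            ((biprod.inr : D ⟶ C).f (j - 1)).hom ((diskIso₀ F j).inv.hom x))) =
          (E.d (j - 1) j).hom y - f x := by
        intro y x
        have e1 : (biprod.inl : E ⟶ C).f (j - 1) ≫ C.d (j - 1) j ≫ u = E.d (j - 1) j := by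
          rw [Hom.comm_assoc, Preadditive.comp_sub, ← comp_f, ← comp_f_assoc, biprod.inl_fst, biprod.inl_snd]
          simp
        have e2 : (diskIso₀ F j).inv ≫ (biprod.inr : D ⟶ C).f (j - 1) ≫ C.d (j - 1) j ≫ u = - fh := by
          rw [Hom.comm_assoc, Preadditive.comp_sub, ← comp_f, ← comp_f_assoc, biprod.inr_fst, biprod.inr_snd,
            disk_d]
          simp
        rw [map_add, map_add]
        have h1 := LinearMap.congr_fun (congrArg ModuleCat.Hom.hom e1) y
        have h2 := LinearMap.congr_fun (congrArg ModuleCat.Hom.hom e2) x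
        simp only [ModuleCat.hom_comp, LinearMap.comp_apply, ModuleCat.hom_neg, LinearMap.neg_apply] at h1 h2
        rw [h1, h2]
        exact (sub_eq_add_neg _ _).symm
      intro w
      rw [toDisk_f₀]
      obtain ⟨_, ⟨x, rfl⟩, _, ⟨y, rfl⟩, hxy⟩ := Submodule.mem_sup.1
        (hf.ge (Submodule.mem_top (x := (diskIso₀ W j).hom.hom w)))
      refine ⟨((biprod.inl : E ⟶ C).f (j - 1)).hom y +
        ((biprod.inr : D ⟶ C).f (j - 1)).hom ((diskIso₀ F j).inv.hom (-x)), ?_⟩
      show (diskIso₀ W j).inv.hom (u.hom ((C.d (j - 1) j).hom _)) = w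
      rw [hd y (-x), map_neg, sub_neg_eq_add, add_comm, hxy]
      exact LinearMap.congr_fun (congrArg ModuleCat.Hom.hom (diskIso₀ W j).hom_inv_id) w
    by_cases h₁ : k = j
    · subst h₁
      rw [toDisk_f₁]
      haveI : IsSplitEpi u := ⟨⟨(biprod.inl : E ⟶ C).f k, by
        rw [Preadditive.comp_sub, ← comp_f, ← comp_f_assoc, biprod.inl_fst, biprod.inl_snd]; simp; rfl⟩⟩
      infer_instance
    exact ⟨fun _ _ _ => (isZero_disk W j k h₀ h₁).eq_of_src _ _⟩
  haveI : Epi p := @epi_of_epi_f _ _ _ _ _ _ _ p hp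
  let S := ShortComplex.mk (kernel.ι p) p (kernel.condition p)
  have hS : S.ShortExact :=
    { exact := ShortComplex.exact_of_f_is_kernel _ (kernelIsKernel p) }
  have hSk : ∀ k, (S.map (eval _ _ k)).ShortExact := fun k => hS.map_of_exact _
  have hCP := finite_projective_biprod hP (disk_finite_projective F j)
  have hWP := disk_finite_projective W j
  have hret : ∀ k, ∃ r : C.X k ⟶ S.X₁.X k, S.f.f k ≫ r = 𝟙 _ := fun k => by
    have : Module.Projective R ((S.map (eval _ _ k)).X₃) := (hWP k).2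
    let s := (hSk k).splittingOfProjective
    exact ⟨s.r, s.f_r⟩
  have hsurj : ∀ k (r : C.X k ⟶ S.X₁.X k), S.f.f k ≫ r = 𝟙 _ → Function.Surjective r.hom :=
    fun k r h x => ⟨(S.f.f k).hom x, LinearMap.congr_fun (congrArg ModuleCat.Hom.hom h) x⟩
  refine ⟨S.X₁, min a (j - 1), max b j, fun k hk => ?_, fun k => ?_, ?_, ?_, fun k hk m hm => ?_⟩
  · have hC : IsZero (C.X k) := by
      refine IsZero.of_iso ?_ (biprodXIso E D k)
      simp only [biprod_isZero_iff]
      exact ⟨hE k (by omega), isZero_disk F j k (by omega) (by omega)⟩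
    haveI : Mono (S.f.f k) := (hSk k).mono_f
    exact IsZero.of_mono (S.f.f k) hC
  · obtain ⟨r, hr⟩ := hret k
    obtain ⟨_, _⟩ := hCP k
    exact ⟨Module.Finite.of_surjective r.hom (hsurj k r hr),
      Module.Projective.of_split (S.f.f k).hom r.hom (congrArg ModuleCat.Hom.hom hr)⟩
  · haveI : QuasiIso S.f := KFlatLib.quasiIso_f_of_acyclic hS (disk_acyclic W j)
    let S₂ := ShortComplex.mk (biprod.inl : E ⟶ C) biprod.snd biprod.inl_snd
    have hS₂ : S₂.ShortExact := (ShortComplex.Splitting.ofHasBinaryBiproduct E D).shortExact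
    haveI : QuasiIso S₂.f := KFlatLib.quasiIso_f_of_acyclic hS₂ (disk_acyclic F j)
    exact ⟨asIso (DerivedCategory.Q.map S.f) ≪≫ (asIso (DerivedCategory.Q.map S₂.f)).symm⟩
  · let c : F ⟶ C.X j := fh ≫ (biprod.inl : E ⟶ C).f j + (diskIso₁ F j).inv ≫ (biprod.inr : D ⟶ C).f j
    have hc : c ≫ S.g.f j = 0 := by
      show c ≫ p.f j = 0
      rw [toDisk_f₁]
      simp only [c, u, Preadditive.add_comp, Preadditive.comp_sub, Preadditive.sub_comp, Category.assoc]
      simp only [← comp_f_assoc, biprod.inl_fst, biprod.inr_fst, biprod.inl_snd, biprod.inr_snd]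
      simp
    haveI : Mono (S.map (eval _ _ j)).f := (hSk j).mono_f
    haveI : Mono (S.f.f j) := (hSk j).mono_f
    let w : F ⟶ S.X₁.X j := (hSk j).exact.lift c hc
    have hw : w ≫ S.f.f j = c := (hSk j).exact.lift_f c hc
    refine (genBy_free n).of_surjective (show ModuleCat.of R (Fin n → R) ⟶ S.X₁.X j from w) fun k => ?_
    have hz : S.f.f j ≫ u = 0 := by
      have h := congrArg (fun φ => Hom.f φ j) S.zero
      simp only [comp_f, zero_f] at h
      have h' : S.f.f j ≫ u ≫ (diskIso₁ W j).inv = 0 := by rw [← toDisk_f₁]; exact h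
      rw [← cancel_mono (diskIso₁ W j).inv, Category.assoc, h', zero_comp]
    have hfst : S.f.f j ≫ (biprod.fst : C ⟶ E).f j =
        S.f.f j ≫ (biprod.snd : C ⟶ D).f j ≫ (diskIso₁ F j).hom ≫ fh := by
      rw [← sub_eq_zero, ← Preadditive.comp_sub]; exact hz
    have key : (S.f.f j ≫ (biprod.snd : C ⟶ D).f j ≫ (diskIso₁ F j).hom) ≫ w = 𝟙 _ := by
      rw [← cancel_mono (S.f.f j)]
      simp only [Category.assoc]
      rw [hw, Category.id_comp]
      simp only [c, Preadditive.comp_add, Iso.hom_inv_id_assoc]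
      rw [← reassoc_of% hfst, ← Preadditive.comp_add, htot, Category.comp_id]
    exact ⟨_, LinearMap.congr_fun (congrArg ModuleCat.Hom.hom key) k⟩
  · obtain ⟨r, hr⟩ := hret k
    have hz : IsZero (D.X k) := isZero_disk F j k (by omega) (by omega)
    have h1 := htot k
    rw [hz.eq_of_tgt ((biprod.snd : C ⟶ D).f k) 0, zero_comp, add_zero] at h1
    refine (hm.of_surjective ((biprod.inl : E ⟶ C).f k) fun x => ?_).of_surjective r (hsurj k r hr)
    exact ⟨_, LinearMap.congr_fun (congrArg ModuleCat.Hom.hom h1) x⟩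

/-- removing an injective bottom differential with projective cokernel -/
theorem exists_trim (E : DRing.Cx R) (a b : ℤ) (hab : a < b) (hE : DRing.VanishesOutside E a b)
    (hP : DRing.TermwiseFiniteProjective E) (hinj : Function.Injective (E.d a (a + 1)).hom)
    (hproj : Module.Projective R (E.X (a + 1) ⧸ LinearMap.range (E.d a (a + 1)).hom)) :
    ∃ E' : DRing.Cx R, DRing.VanishesOutside E' (a + 1) b ∧ DRing.TermwiseFiniteProjective E' ∧
      Nonempty (DRing.toD E' ≅ DRing.toD E) ∧ ∀ k m, GenBy (E.X k) m → GenBy (E'.X k) m := by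
  have hd : E.d (a + 1 - 1) (a + 1) = eqToHom (by rw [add_sub_cancel_right]) ≫ E.d a (a + 1) := by
    simp
  obtain ⟨_, _⟩ := hP (a + 1 - 1)
  let W := E.X (a + 1 - 1)
  let q : disk W (a + 1) ⟶ E :=
    mkHomFromDouble (rel_pred (a + 1)) (pred_ne (a + 1)) (𝟙 W) (E.d (a + 1 - 1) (a + 1))
      (by simp [W]) (fun k _ => by simp)
  have hq₀ : q.f (a + 1 - 1) = (diskIso₀ W (a + 1)).hom := by simp [q, W]
  have hq₁ : q.f (a + 1) = (diskIso₁ W (a + 1)).hom ≫ eqToHom (by simp [W]) ≫ E.d a (a + 1) := by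
    simp [q, W]
  have hq : ∀ k, Mono (q.f k) := by
    intro k
    by_cases h₀ : k = a + 1 - 1
    · subst h₀; rw [hq₀]; infer_instance
    by_cases h₁ : k = a + 1
    · subst h₁
      rw [hq₁]
      haveI : Mono (E.d a (a + 1)) := (ModuleCat.mono_iff_injective _).2 hinj
      exact mono_comp _ _
    exact ⟨fun _ _ _ => (isZero_disk W (a + 1) k h₀ h₁).eq_of_tgt _ _⟩
  haveI : Mono q := @mono_of_mono_f _ _ _ _ _ _ _ q hq
  let S := ShortComplex.mk q (cokernel.π q) (cokernel.condition q)
  have hS : S.ShortExact :=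
    { exact := ShortComplex.exact_of_g_is_cokernel _ (cokernelIsCokernel q) }
  have hSk : ∀ k, (S.map (eval _ _ k)).ShortExact := fun k => hS.map_of_exact _
  have hsurj : ∀ k, Function.Surjective (S.g.f k).hom := fun k =>
    (ModuleCat.epi_iff_surjective _).1 (hSk k).epi_g
  have hker : ∀ k, LinearMap.range (q.f k).hom = LinearMap.ker (S.g.f k).hom := fun k =>
    (ShortComplex.moduleCat_exact_iff_range_eq_ker _).1 (hSk k).exact
  refine ⟨S.X₃, fun k hk => ?_, fun k => ?_, ?_, fun k m hm => hm.of_surjective (S.g.f k) (hsurj k)⟩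
  · haveI : Epi (S.g.f k) := (hSk k).epi_g
    by_cases h₀ : k = a + 1 - 1
    · subst h₀
      refine (IsZero.iff_id_eq_zero _).2 ?_
      haveI : Epi (q.f (a + 1 - 1)) := by rw [hq₀]; infer_instance
      have h := congrArg (fun φ => Hom.f φ (a + 1 - 1)) S.zero
      simp only [comp_f, zero_f] at h
      rw [← cancel_epi (S.g.f (a + 1 - 1)), ← cancel_epi (q.f (a + 1 - 1)), comp_zero, comp_zero,
        Category.comp_id]
      exact h
    · exact IsZero.of_epi (S.g.f k) (hE k (by omega))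
  · obtain ⟨_, _⟩ := hP k
    refine ⟨Module.Finite.of_surjective _ (hsurj k), ?_⟩
    by_cases h₁ : k = a + 1
    · subst h₁
      have hr : LinearMap.range (E.d a (a + 1)).hom = LinearMap.ker (S.g.f (a + 1)).hom := by
        rw [← hker, hq₁]
        rw [← Category.assoc, ModuleCat.hom_comp, LinearMap.range_comp_of_range_eq_top]
        rw [LinearMap.range_eq_top]
        exact (ModuleCat.epi_iff_surjective ((diskIso₁ W (a + 1)).hom ≫ eqToHom _)).1 inferInstance
      exact Module.Projective.of_equiv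
        ((Submodule.quotEquivOfEq _ _ hr).trans (LinearMap.quotKerEquivOfSurjective _ (hsurj (a + 1))))
    by_cases h₀ : k = a + 1 - 1
    · subst h₀
      have : LinearMap.ker (S.g.f (a + 1 - 1)).hom = ⊤ := by
        rw [← hker, hq₀, LinearMap.range_eq_top]
        exact (ModuleCat.epi_iff_surjective _).1 inferInstance
      have : Subsingleton (S.X₃.X (a + 1 - 1)) := ⟨fun x y => by
        obtain ⟨x, rfl⟩ := hsurj _ x
        obtain ⟨y, rfl⟩ := hsurj _ y
        rw [LinearMap.mem_ker.1 (this.ge Submodule.mem_top), LinearMap.mem_ker.1 (this.ge Submodule.mem_top)]⟩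
      infer_instance
    have hinj' : Function.Injective (S.g.f k).hom := by
      rw [← LinearMap.ker_eq_bot, ← hker, (isZero_disk W (a + 1) k h₀ h₁).eq_of_src (q.f k) 0]
      exact LinearMap.range_zero
    exact Module.Projective.of_equiv (LinearEquiv.ofBijective _ ⟨hinj', hsurj k⟩)
  · haveI : QuasiIso S.g := KFlatLib.quasiIso_g_of_acyclic hS (disk_acyclic W (a + 1))
    exact ⟨(asIso (DerivedCategory.Q.map S.g)).symm⟩

end Groth.Agent.NisCov7.Size
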